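import Cfsg.Agent.Acd.Defs
import Cfsg.Agent.Grp.NormalComplement

/-! Closure properties of the class `XS` and the basic excess bounds. -/

set_option autoImplicit false
set_option maxHeartbeats 400000
set_option linter.unusedSectionVars false

namespace Cfsg.Acd

open Cfsg.FT
open scoped Pointwise Classical

variable {G : Type*} [Group G] [Finite G] {G' : Type*} [Group G'] [Finite G']
variable {L H K W T N E O : Subgroup G} {θ φ ψ χ : G → ℂ} {g : G}

theorem sum_deg_add (L : Subgroup G) :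
    ∑ χ ∈ irr L, charDegree χ + ⁅L, L⁆.relIndex L = exc L + 2 * (irr L).card := by
  rw [← card_lin_irr, exc, Finset.card_filter, Finset.card_eq_sum_ones, Finset.mul_sum,
    ← Finset.sum_add_distrib, ← Finset.sum_add_distrib]
  refine Finset.sum_congr rfl fun χ hχ => ?_
  have h := mem_irr.1 hχ
  have h0 := h.charDegree_pos
  have h1 := h.isLin_iff
  split_ifs with h2
  · rw [h1.1 h2]; rfl
  · have : charDegree χ ≠ 1 := fun e => h2 (h1.2 e)
    omega

theorem acd_iff : Acd L ↔ ∑ χ ∈ irr L, charDegree χ ≤ 2 * (irr L).card := by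
  have := sum_deg_add L
  unfold Acd; omega

theorem exc_ge {S : Finset (G → ℂ)} (hS : ∀ χ ∈ S, IsIrr L χ) :
    ∑ χ ∈ S, (charDegree χ - 2) ≤ exc L :=
  Finset.sum_le_sum_of_subset fun χ h => mem_irr.2 (hS χ h)

theorem deg_lin_mul {l : G → ℂ} (hl : IsLin L l) (φ : G → ℂ) : charDegree (l * φ) = charDegree φ := by
  simp only [charDegree, Pi.mul_apply, hl.one, one_mul]

theorem exc_ker_le (N : Subgroup G) (L : Subgroup G) :
    ((irr L).filter (IsLin L)).card * ∑ χ ∈ (irr L).filter (fun χ => N ≤ cfker L χ), (charDegree χ - 2) ≤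
      ((irr L).filter (fun χ => N ≤ cfker L χ ∧ IsLin L χ)).card * exc L := by
  set Λ := (irr L).filter (IsLin L)
  set I := (irr L).filter (fun χ => N ≤ cfker L χ)
  set Λ₀ := (irr L).filter (fun χ => N ≤ cfker L χ ∧ IsLin L χ)
  have hm : ∀ p ∈ Λ ×ˢ I, p.1 * p.2 ∈ irr L := fun p hp => by
    obtain ⟨h1, h2⟩ := Finset.mem_product.1 hp
    exact mem_irr.2 ((Finset.mem_filter.1 h1).2.mul_irr (mem_irr.1 (Finset.mem_filter.1 h2).1))
  have e1 : Λ.card * ∑ χ ∈ I, (charDegree χ - 2) = ∑ p ∈ Λ ×ˢ I, (charDegree (p.1 * p.2) - 2) := by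
    rw [Finset.sum_product, Finset.card_eq_sum_ones, Finset.sum_mul]
    refine Finset.sum_congr rfl fun l hl => ?_
    rw [one_mul]
    exact Finset.sum_congr rfl fun χ _ => by rw [deg_lin_mul (Finset.mem_filter.1 hl).2]
  rw [e1, ← Finset.sum_fiberwise_of_maps_to hm, exc, Finset.mul_sum]
  refine Finset.sum_le_sum fun χ hχ => ?_
  rw [Finset.sum_congr rfl (g := fun _ => charDegree χ - 2)
    (fun p hp => by rw [(Finset.mem_filter.1 hp).2]), Finset.sum_const, smul_eq_mul]
  refine Nat.mul_le_mul_right _ ?_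
  rcases ((Λ ×ˢ I).filter (fun p => p.1 * p.2 = χ)).eq_empty_or_nonempty with h0 | ⟨p₀, hp₀⟩
  · rw [h0]; exact Nat.zero_le _
  obtain ⟨hp₀, e₀⟩ := Finset.mem_filter.1 hp₀
  obtain ⟨a₀, b₀⟩ := Finset.mem_product.1 hp₀
  have l₀ := (Finset.mem_filter.1 a₀).2
  obtain ⟨i₀, k₀⟩ := Finset.mem_filter.1 b₀
  refine Finset.card_le_card_of_injOn (fun p => star p₀.1 * p.1) (fun p hp => ?_) (fun p hp q hq e => ?_)
  · obtain ⟨hp, e⟩ := Finset.mem_filter.1 hp
    obtain ⟨a, b⟩ := Finset.mem_product.1 hp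
    have l := (Finset.mem_filter.1 a).2
    obtain ⟨i, k⟩ := Finset.mem_filter.1 b
    have hl := l₀.star.mul l
    refine Finset.mem_filter.2 ⟨mem_irr.2 hl.isIrr, hl.le_cfker.2 fun x hx => ?_, hl⟩
    have hxL : x ∈ L := cfker_le _ _ (k hx)
    have e1 := congrFun (e.trans e₀.symm) x
    have e2 := congrFun (e.trans e₀.symm) 1
    simp only [Pi.mul_apply, cfker1 (k hx), cfker1 (k₀ hx), l.one, l₀.one, one_mul] at e1 e2
    rw [e2] at e1
    have e3 := mul_right_cancel₀ (mem_irr.1 i₀).one_ne_zero e1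
    rw [Pi.mul_apply, Pi.star_apply, e3, mul_comm]
    exact l₀.mul_conj hxL
  · obtain ⟨hp, ep⟩ := Finset.mem_filter.1 hp
    obtain ⟨a, b⟩ := Finset.mem_product.1 hp
    obtain ⟨hq, eq⟩ := Finset.mem_filter.1 hq
    obtain ⟨a', b'⟩ := Finset.mem_product.1 hq
    have l := (Finset.mem_filter.1 a).2
    have e1 : p.1 = q.1 := l₀.star.mul_left_cancel l.isCF (Finset.mem_filter.1 a').2.isCF e
    refine Prod.ext e1 (l.mul_left_cancel (mem_irr.1 (Finset.mem_filter.1 b).1).isCF
      (mem_irr.1 (Finset.mem_filter.1 b').1).isCF ?_)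
    rw [ep, e1, eq]

theorem Acd.morph {f : G → G'} {L' : Subgroup G'} (h : MorphOnto L f L') (hL : Acd L) : Acd L' := by
  have h1 := exc_ker_le h.ker L
  have e1 : ∑ χ ∈ (irr L).filter (fun χ => h.ker ≤ cfker L χ), (charDegree χ - 2) = exc L' := by
    rw [h.sum_irr, exc]
    exact Finset.sum_congr rfl fun φ _ => by rw [h.charDegree_cfPull]
  have e2 : ((irr L).filter (fun χ => h.ker ≤ cfker L χ ∧ IsLin L χ)).card = ⁅L', L'⁆.relIndex L' := by
    rw [← card_lin_irr, ← Finset.filter_filter, Finset.card_filter, h.sum_irr, Finset.card_filter]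
    exact Finset.sum_congr rfl fun φ hφ => by simp only [h.isLin_iff (mem_irr.1 hφ).isCF]
  rw [e1, e2, card_lin_irr] at h1
  have h2 := h1.trans (Nat.mul_le_mul_left _ hL)
  rw [mul_comm (⁅L', L'⁆.relIndex L')] at h2
  exact Nat.le_of_mul_le_mul_left h2 (relIndex_pos _ _)

theorem XS.acd (h : XS L) : Acd L := h L le_rfl
theorem XS.mono (h : XS L) (hH : H ≤ L) : XS H := fun K hK => h K (hK.trans hH)

theorem XS.morph {f : G → G'} {L' : Subgroup G'} (hL : XS L) (h : MorphOnto L f L') : XS L' := by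
  intro H' hH'
  let H : Subgroup G := ((H'.subgroupOf L').comap h.hom).map L.subtype
  have hH : H ≤ L := Subgroup.map_subtype_le _
  refine (hL H hH).morph (h.restrict' hH ?_ ?_)
  · rintro _ ⟨x, hx, rfl⟩
    exact hx
  · intro y hy
    obtain ⟨x, hx, rfl⟩ := h.surj y (hH' hy)
    exact ⟨x, ⟨⟨x, hx⟩, hy, rfl⟩, rfl⟩

theorem XS.map (hL : XS L) (f : G →* G') : XS (L.map f) := hL.morph (morphOnto_map f L)
theorem XS.quo (hL : XS L) (K : Subgroup G) : XS (L ⁄ K) := by
  rw [← quotientInorm]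
  exact (hL.mono inf_le_right).morph (morphOnto_coset inf_le_left)
theorem XS.conj (hL : XS L) (g : G) : XS (g •ᶜ L) := by
  rw [conj_eq_map]; exact hL.map _

/-! ### characters over a character of a normal subgroup -/

/-- the excess of the characters over `θ` -/
noncomputable def excOver (L W : Subgroup G) (θ : G → ℂ) : ℕ :=
  ∑ χ ∈ (irr L).filter (fun χ => dot W χ θ ≠ 0), (charDegree χ - 2)

theorem sum_excOver_le (hW : W ⊴ L) (Θ : Finset (G → ℂ)) (hΘ : ∀ θ ∈ Θ, IsIrr W θ)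
    (hd : ∀ θ ∈ Θ, ∀ φ ∈ Θ, φ ∈ cfclass L θ → θ = φ) : ∑ θ ∈ Θ, excOver L W θ ≤ exc L := by
  unfold excOver
  rw [← Finset.sum_biUnion]
  · exact exc_ge fun χ hχ => by
      obtain ⟨θ, -, h⟩ := Finset.mem_biUnion.1 hχ
      exact mem_irr.1 (Finset.mem_filter.1 h).1
  · intro θ hθ φ hφ hne
    refine Finset.disjoint_left.2 fun χ h1 h2 => hne (hd θ hθ φ hφ ?_)
    obtain ⟨a, b⟩ := Finset.mem_filter.1 h1
    exact clifford_mem_cfclass hW (mem_irr.1 a) (hΘ θ hθ) (hΘ φ hφ) b (Finset.mem_filter.1 h2).2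

theorem excOver_le (L W : Subgroup G) (θ : G → ℂ) : excOver L W θ ≤ exc L :=
  exc_ge fun _ hχ => mem_irr.1 (Finset.mem_filter.1 hχ).1

theorem excOver_add_le (hW : W ⊴ L) (hθ : IsIrr W θ) (hφ : IsIrr W φ) (h : φ ∉ cfclass L θ) :
    excOver L W θ + excOver L W φ ≤ exc L := by
  have hne : θ ≠ φ := fun e => h (e ▸ cfclass_refl L θ)
  have := sum_excOver_le hW {θ, φ} (by simp [hθ, hφ]) (by
    intro a ha b hb hab
    simp only [Finset.mem_insert, Finset.mem_singleton] at ha hb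
    rcases ha with rfl | rfl <;> rcases hb with rfl | rfl
    · rfl
    · exact absurd hab h
    · exact absurd (cfclass_symm hab) h
    · rfl)
  rwa [Finset.sum_pair hne] at this

theorem excOver_add_single (hθ : IsIrr L χ) (h : dot W χ θ = 0) :
    excOver L W θ + (charDegree χ - 2) ≤ exc L := by
  unfold excOver
  have hn : χ ∉ (irr L).filter (fun χ => dot W χ θ ≠ 0) := fun h' => (Finset.mem_filter.1 h').2 h
  rw [add_comm, ← Finset.sum_insert (f := fun χ => charDegree χ - 2) hn]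
  exact exc_ge fun φ hφ => by
    rcases Finset.mem_insert.1 hφ with rfl | h'
    · exact hθ
    · exact mem_irr.1 (Finset.mem_filter.1 h').1

theorem deg_mul (hφ : IsChar L φ) (hψ : IsChar L ψ) :
    charDegree (φ * ψ) = charDegree φ * charDegree ψ := by
  have := (hφ.mul hψ).one_eq
  rw [Pi.mul_apply, hφ.one_eq, hψ.one_eq] at this
  exact_mod_cast this.symm

theorem deg_Res (H : Subgroup G) (φ : G → ℂ) : charDegree (Res H φ) = charDegree φ := by
  simp only [charDegree, Res_one]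

/-- if `θ` extends to its inertia group `T`, Gallagher and the Clifford correspondence -/
theorem exc_over (hW : W ⊴ L) (hθ : IsIrr W θ) (hT : T = L ⊓ inertia W θ) (hψ : IsChar T ψ)
    (he : Res W ψ = θ) :
    ∑ β ∈ (irr T).filter (fun β => W ≤ cfker T β),
      (T.relIndex L * (charDegree β * charDegree θ) - 2) ≤ excOver L W θ := by
  have hTL : T ≤ L := hT ▸ inf_le_left
  have hWT : W ⊴ T := hT ▸ hθ.isCF.normal_Inertia hW.le
  have hi : IsIrr W (Res W ψ) := he ▸ hθ
  have hI : L ⊓ inertia W θ ≤ T := hT.ge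
  have key : ∀ β ∈ (irr T).filter (fun β => W ≤ cfker T β), IsIrr T (β * ψ) ∧ dot W (β * ψ) θ ≠ 0 := by
    intro β hβ
    obtain ⟨a, b⟩ := Finset.mem_filter.1 hβ
    refine ⟨gallagher_irr hWT hψ hi (mem_irr.1 a) b, ?_⟩
    rw [← dot_Res_left, Res_ker_mul b, he, dot_smul_left, hθ.dot_self, mul_one]
    exact (mem_irr.1 a).one_ne_zero
  have hinj : Set.InjOn (fun β => Ind L T (β * ψ))
      ((irr T).filter (fun β => W ≤ cfker T β) : Set (G → ℂ)) := by
    intro α hα β hβ e
    have a := key α hα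
    have b := key β hβ
    obtain ⟨a1, a2⟩ := Finset.mem_filter.1 hα
    obtain ⟨b1, b2⟩ := Finset.mem_filter.1 hβ
    exact FT.gallagher_inj' hWT hψ hi (mem_irr.1 a1).isCF (mem_irr.1 b1).isCF a2 b2
      (clifford_corr_inj' hW hθ hWT.le hTL hI a.1 a.2 b.1 b.2 e)
  calc _ = ∑ β ∈ (irr T).filter (fun β => W ≤ cfker T β), (charDegree (Ind L T (β * ψ)) - 2) := by
        refine Finset.sum_congr rfl fun β hβ => ?_
        rw [(key β hβ).1.isChar.charDegree_Ind hTL,
          deg_mul (mem_irr.1 (Finset.mem_filter.1 hβ).1).isChar hψ, ← he, deg_Res]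
    _ = ∑ χ ∈ ((irr T).filter (fun β => W ≤ cfker T β)).image (fun β => Ind L T (β * ψ)),
          (charDegree χ - 2) := (Finset.sum_image (f := fun χ => charDegree χ - 2) hinj).symm
    _ ≤ _ := by
        refine Finset.sum_le_sum_of_subset fun χ hχ => ?_
        obtain ⟨β, hβ, rfl⟩ := Finset.mem_image.1 hχ
        have a := key β hβ
        refine Finset.mem_filter.2 ⟨mem_irr.2 (clifford_corr_irr hW hθ hWT.le hTL hI a.1 a.2), ?_⟩
        rw [clifford_corr_dot hW hθ hWT.le hTL hI a.1 a.2]; exact a.2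

theorem card_lin_ker (hW : W ⊴ T) :
    ((irr T).filter (fun β => W ≤ cfker T β ∧ IsLin T β)).card = (W ⊔ ⁅T, T⁆).relIndex T := by
  rw [← card_irr_ker_abelian (normalY hW (der_normal T)) le_sup_right]
  congr 1
  refine Finset.filter_congr fun β hβ => ?_
  rw [sup_le_iff, (mem_irr.1 hβ).isLin_iff_der]

/-- only the linear characters of `T/W` -/
theorem exc_over_lin (hW : W ⊴ L) (hθ : IsIrr W θ) (hT : T = L ⊓ inertia W θ) (hψ : IsChar T ψ)
    (he : Res W ψ = θ) :
    (W ⊔ ⁅T, T⁆).relIndex T * (T.relIndex L * charDegree θ - 2) ≤ excOver L W θ := by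
  have hWT : W ⊴ T := hT ▸ hθ.isCF.normal_Inertia hW.le
  refine le_trans ?_ (exc_over hW hθ hT hψ he)
  rw [← card_lin_ker hWT, ← smul_eq_mul, ← Finset.sum_const]
  refine le_trans (le_of_eq (Finset.sum_congr rfl fun β hβ => ?_))
    (Finset.sum_le_sum_of_subset fun β hβ => ?_)
  · rw [(Finset.mem_filter.1 hβ).2.2.charDegree_eq, one_mul]
  · obtain ⟨a, b, -⟩ := Finset.mem_filter.1 hβ
    exact Finset.mem_filter.2 ⟨a, b⟩

/-- a bound for the degrees of subgroups -/
theorem Acd.deg_le (h : Acd L) (hH : H ≤ L) (hθ : IsIrr H θ) :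
    charDegree θ ≤ ⁅L, L⁆.relIndex L + 2 := by
  obtain ⟨χ, hχ, h0⟩ := hθ.exists_over hH
  have h1 := hχ.isChar.charDegree_le_of_over hH hθ h0
  have h2 := exc_ge (L := L) (S := {χ}) (by simpa using hχ)
  rw [Finset.sum_singleton] at h2
  unfold Acd at h
  omega

/-! ### solvability -/

theorem Acd.eq_bot_of_perfect (h : Acd L) (hp : ⁅L, L⁆ = L) : L = ⊥ := by
  unfold Acd at h
  rw [hp, Subgroup.relIndex_self] at h
  have hs := sum_irr_charDegree_sq L
  have h1 : ((irr L).filter (IsLin L)).card = 1 := by rw [card_lin_irr, hp, Subgroup.relIndex_self]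
  -- `d² = 4 + 5 (d - 2) - 3 [d = 1]` for `d ≤ 3`
  have h3 : ∀ χ ∈ irr L, charDegree χ ≤ 3 := fun χ hχ => by
    have := exc_ge (L := L) (S := {χ}) (by simpa using hχ)
    rw [Finset.sum_singleton] at this; omega
  have e : Nat.card L + 3 = 4 * (irr L).card + 5 * exc L := by
    rw [← hs, ← mul_one 3, ← h1, Finset.card_filter, Finset.mul_sum, ← Finset.sum_add_distrib, exc,
      Finset.card_eq_sum_ones, Finset.mul_sum, Finset.mul_sum, ← Finset.sum_add_distrib]
    refine Finset.sum_congr rfl fun χ hχ => ?_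
    have a := (mem_irr.1 hχ).charDegree_pos
    have b := h3 χ hχ
    simp only [(mem_irr.1 hχ).isLin_iff]
    interval_cases charDegree χ <;> simp
  rcases (by omega : exc L = 0 ∨ exc L = 1) with h0 | h0
  · have ho : Odd (Nat.card L) := by rw [Nat.odd_iff]; omega
    have hl : ∀ χ, IsIrr L χ → IsLin L χ := fun χ hχ => by
      have a := hχ.odd_charDegree ho
      have b := exc_ge (L := L) (S := {χ}) (by simpa using hχ)
      rw [Finset.sum_singleton] at b
      rw [hχ.isLin_iff]; rw [Nat.odd_iff] at a; omega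
    rw [← hp]; exact derG1P.2 (abelian_iff_forall_isLin.2 hl)
  · exfalso
    have h2 : Nat.card L % 4 = 2 := by omega
    obtain ⟨P⟩ : Nonempty (Sylow 2 L) := inferInstance
    have hP : Nat.card P = 2 := by
      rw [P.card_eq_multiplicity]
      have : (Nat.card L).factorization 2 = 1 := by
        have hn : Nat.card L ≠ 0 := by omega
        have a : 1 ≤ (Nat.card L).factorization 2 :=
          (Nat.prime_two.pow_dvd_iff_le_factorization hn).1 (by omega)
        have b : ¬ 2 ≤ (Nat.card L).factorization 2 := fun b => by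
          have := (Nat.prime_two.pow_dvd_iff_le_factorization hn).2 b
          omega
        omega
      rw [this]; rfl
    have hc : IsCyclic P := isCyclic_of_prime_card hP
    have hN := hasNormalPComplement_two_of_isCyclic P hc
    obtain ⟨M, hM, hM2, k, hk⟩ := hasNormalPComplement_iff_exists.1 hN
    have htop : commutator L = ⊤ := by
      apply Subgroup.map_injective L.subtype_injective
      rw [Subgroup.map_subtype_commutator, hp, map_subtype_top]
    have hk0 : k ≠ 0 := by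
      rintro rfl
      have := M.card_mul_index
      rw [hk] at this
      exact hM2 (by omega)
    have hq : IsPGroup 2 (L ⧸ M) := IsPGroup.of_card hk
    have : Nontrivial (L ⧸ M) := by
      rw [← Finite.one_lt_card_iff_nontrivial]
      exact (Nat.one_lt_pow hk0 one_lt_two).trans_eq hk.symm
    have hs : Group.IsSolvable (L ⧸ M) := by
      haveI := hq.isNilpotent
      infer_instance
    have := Group.IsSolvable.commutator_lt_top_of_nontrivial (L ⧸ M)
    have e2 := Subgroup.map_commutator (⊤ : Subgroup L) ⊤ (QuotientGroup.mk' M)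
    rw [← commutator_def, htop, Subgroup.map_top_of_surjective _ (QuotientGroup.mk'_surjective M),
      ← commutator_def] at e2
    exact this.ne e2.symm

theorem XS.sol (h : XS L) : Group.IsSolvable L := by
  induction hn : Nat.card L using Nat.strong_induction_on generalizing L with
  | _ n ih =>
  by_cases hp : ⁅L, L⁆ = L
  · rw [h.acd.eq_bot_of_perfect hp]; exact solvable1
  · refine sol_of_der (ih _ ?_ (h.mono (der_sub L)) rfl)
    rw [← hn]
    exact lt_of_le_of_ne (Subgroup.card_le_of_le (der_sub L))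
      fun e => hp (card_eq_of_le (der_sub L) e.ge)

/-! ### special pairs -/

theorem coprime_of_two_odd (hE : IsPGroup 2 E) (hK : Odd (Nat.card K)) :
    (Nat.card E).Coprime (Nat.card K) := by
  obtain ⟨n, hn⟩ := exists_card_pgroup hE
  rw [hn]
  exact Nat.Coprime.pow_left _ ((Nat.coprime_two_left).2 hK)

theorem Sp.coprime (h : Sp W K) : (Nat.card W).Coprime (Nat.card K) := coprime_of_two_odd h.two h.odd

theorem Sp.not_cent (h : Sp W K) : ¬ K ≤ 𝐂[W] := fun hc => h.ne (h.comm ▸ commG1P'.2 hc)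

theorem Sp.ne_bot' (h : Sp W K) : K ≠ ⊥ := fun e => h.not_cent (e ▸ bot_le)

theorem sp_comm (hE : IsPGroup 2 E) (ha : IsMulCommutative K) (ho : Odd (Nat.card K))
    (hn : K ≤ 𝐍[E]) (hc : ¬ K ≤ 𝐂[E]) : Sp ⁅E, K⁆ K :=
  ⟨hE.to_le (commg_subl.2 hn), fun e => hc (commG1P'.1 e), ha, ho, commg_normr _ _,
    coprime_commGid hn (coprime_of_two_odd hE ho)⟩

theorem sp_comm_cycle {y : G} (hE : IsPGroup 2 E) (ho : Odd (orderOf y)) (hn : y ∈ 𝐍[E])
    (hc : y ∉ 𝐂[E]) : Sp ⁅E, ⟪y⟫⁆ ⟪y⟫ :=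
  sp_comm hE (cycle_abelian y) (by rwa [Nat.card_zpowers]) (Subgroup.zpowers_le.2 hn)
    fun h => hc (h (Subgroup.mem_zpowers y))

theorem Sp.map (h : Sp W K) (f : G →* G') (hf : ¬ W ≤ f.ker) : Sp (W.map f) (K.map f) :=
  ⟨h.two.map f, fun e => hf ((Subgroup.map_eq_bot_iff _).1 e), abelian_map f h.ab,
    Odd.of_dvd_nat h.odd (Subgroup.card_map_dvd _ f), map_norms f h.norm, by
      rw [← Subgroup.map_commutator, h.comm]⟩

theorem Sp.conj (h : Sp W K) (g : G) : Sp (g •ᶜ W) (g •ᶜ K) :=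
  ⟨isPGroup_conj.2 h.two, conj_ne_bot.2 h.ne, isMulCommutative_conj.2 h.ab,
    by rw [card_conj]; exact h.odd, conj_norms g h.norm, by rw [← conj_commutator, h.comm]⟩

theorem Sp.quo (h : Sp W K) (hW : W ≤ 𝐍[N]) (hK : K ≤ 𝐍[N]) (hn : ¬ W ≤ N) :
    Sp (W ⁄ N) (K ⁄ N) :=
  ⟨quotient_pgroup N h.two, fun e => hn ((quotient_sub1 hW).1 e), quotient_abelian N h.ab,
    quotient_odd N h.odd, quotient_norms N h.norm, by rw [← quotientR hW hK, h.comm]⟩

theorem Sp.not_le_odd (h : Sp W K) (hO : Odd (Nat.card O)) : ¬ W ≤ O := fun hl =>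
  (Nat.not_even_iff_odd.2 hO) (even_iff_two_dvd.2 ((pgroup_pdiv h.two h.ne).trans
    (Subgroup.card_dvd_of_le hl)))

theorem odd_core (H : Subgroup G) : Odd (Nat.card (core {2}ᶜ H)) :=
  Nat.not_even_iff_odd.1 fun h => p'core_not_dvd 2 H (even_iff_two_dvd.1 h)

/-! ### the minimal simple setting -/

theorem MS.normal_cases (h : MS G) (hN : N.Normal) : N = ⊥ ∨ N = ⊤ :=
  haveI := h.simple
  hN.eq_bot_or_eq_top

theorem MS.ne_top_of_sol (h : MS G) (hs : Group.IsSolvable H) : H ≠ ⊤ := by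
  rintro rfl
  exact h.nsol (solvable_of_surjective (f := (⊤ : Subgroup G).subtype) fun x => ⟨⟨x, trivial⟩, rfl⟩)

theorem MS.norm_ne_top (h : MS G) (hE : E ≠ ⊥) (hs : Group.IsSolvable E) : 𝐍[E] ≠ ⊤ := fun e =>
  (h.normal_cases (norm_eq_top.1 e)).elim hE (h.ne_top_of_sol hs)

theorem MS.xs_norm (h : MS G) (hE : E ≠ ⊥) (hs : Group.IsSolvable E) : XS 𝐍[E] :=
  h.xs _ (h.norm_ne_top hE hs)

theorem MS.xs_of_norm (h : MS G) (hE : E ≠ ⊥) (hs : Group.IsSolvable E) (hH : H ≤ 𝐍[E]) : XS H :=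
  (h.xs_norm hE hs).mono hH

theorem MS.xs_norm_pgroup {p : ℕ} [Fact p.Prime] (h : MS G) (hE : E ≠ ⊥) (hp : IsPGroup p E) :
    XS 𝐍[E] := h.xs_norm hE (pgroup_sol hp)

theorem MS.xs_norm_cycle (h : MS G) {x : G} (hx : x ≠ 1) : XS 𝐍[⟪x⟫] :=
  h.xs_norm (by simpa using hx) (abelian_sol (cycle_abelian x))

theorem MS.xs_cent1 (h : MS G) {x : G} (hx : x ≠ 1) : XS 𝐂₁[x] :=
  (h.xs_norm_cycle hx).mono (norms_cycle le_rfl)

theorem MS.xs_of_sol (h : MS G) (hs : Group.IsSolvable H) : XS H := h.xs _ (h.ne_top_of_sol hs)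

theorem MS.sol (h : MS G) (hH : H ≠ ⊤) : Group.IsSolvable H := (h.xs H hH).sol

theorem MS.perfect (h : MS G) : commutator G = ⊤ := by
  refine (h.normal_cases inferInstance).resolve_left fun e => h.nsol ?_
  have := abelian_sol (derG1P.1 e : IsMulCommutative (⊤ : Subgroup G))
  exact solvable_of_surjective (f := (⊤ : Subgroup G).subtype) fun x => ⟨⟨x, trivial⟩, rfl⟩

end Cfsg.Acd
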