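import Cfsg.Agent.Acd.Base

/-!
# Piece `StD` of S4753, part 1: four-groups are self-centralising
-/

set_option autoImplicit false
set_option linter.unusedSectionVars false

namespace Cfsg.Acd.DD

open Cfsg.FT Subgroup
open scoped Pointwise

universe u

variable {G : Type u} [Group G] [Finite G] {T V K : Subgroup G} {σ τ a b k s t v : G} {m : ℕ}

instance : Fact (Nat.Prime 2) := ⟨Nat.prime_two⟩

theorem exists_prime_pow (h1 : k ≠ 1) (ho : Odd (orderOf k)) :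
    ∃ p, p.Prime ∧ p ≠ 2 ∧ ∃ a ∈ ⟪k⟫, orderOf a = p := by
  obtain ⟨p, hp, hd⟩ := exists_prime_dvd_card (mt zpowers_eq_bot.1 h1)
  refine ⟨p, hp, ?_, Cauchy hp hd⟩
  rintro rfl
  rw [Nat.card_zpowers] at hd
  exact ho.not_two_dvd_nat hd

theorem odd_iff : PiElt {2}ᶜ k ↔ Odd (orderOf k) := by
  rw [piElt_compl, ← even_iff_two_dvd, Nat.not_even_iff_odd]

theorem odd_of_mem {O : Subgroup G} (hO : Odd (Nat.card O)) (hk : k ∈ O) : Odd (orderOf k) :=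
  hO.of_dvd_nat (orderOf_dvd_natCard O hk)

theorem eq_one_of_inv (ho : Odd (orderOf k)) (h : k = k⁻¹) : k = 1 :=
  orderOf_eq_one_iff.1 (Nat.Coprime.eq_one_of_dvd ho.coprime_two_right
    (orderOf_dvd_of_pow_eq_one (by rw [pow_two, mul_eq_one_iff_eq_inv]; exact h)))

theorem eq_one_of_two (hT : IsPGroup 2 T) (hk : k ∈ T) (ho : Odd (orderOf k)) : k = 1 :=
  (((piSub_singleton.2 hT).piElt hk)).eq_one (odd_iff.2 ho)

theorem two_cycle (h : s * s = 1) : IsPGroup 2 ⟪s⟫ :=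
  abelem_pgroup (cycle_abelem (by rw [pow_two, h]))

theorem norm_of_inv (h : s * k * s⁻¹ = k⁻¹) : s ∈ 𝐍[⟪k⟫] := by
  rw [← conj_eq_iff_mem_norm, conj_zpowers, h, zpowers_inv]

theorem exists_syl {p : ℕ} [Fact p.Prime] {E : Subgroup G} (ho : OddFact G) (h2 : p ≠ 2)
    (hE : IsPGroup p E) (h1 : E ≠ ⊥) : ∃ P, Syl p P ⊤ ∧ E ≤ P ∧ IsMulCommutative P ∧
      ⁅𝐍[P], 𝐍[P]⁆ ≤ 𝐂[P] ∧ ((∃ u : G, IsPGroup 2 ⟪u⟫ ∧ ∀ a ∈ P, u * a * u⁻¹ = a⁻¹) ∨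
        (Nat.card P = 7 ∧ 𝐂[P].relIndex 𝐍[P] = 3)) := by
  obtain ⟨P, hP, hl⟩ := Sylow_superset le_top hE
  exact ⟨P, hP, hl, ho p Fact.out h2 P hP fun e => h1 (eq_bot_iff.2 (e ▸ hl))⟩

theorem exists_norm_not_cent (ho : OddFact G) (h1 : k ≠ 1) (hk : (orderOf k).Prime)
    (h2 : orderOf k ≠ 2) : ¬ 𝐍[⟪k⟫] ≤ 𝐂₁[k] := fun h => by
  have := Fact.mk hk
  obtain ⟨P, -, hl, -, -, ⟨u, -, hu⟩ | ⟨h7, h3⟩⟩ := exists_syl ho h2
    (prime_pgroup (Nat.card_zpowers k)) (mt zpowers_eq_bot.1 h1)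
  · have e := hu k (hl (mem_zpowers k))
    exact h1 (eq_one_of_inv (hk.odd_of_ne_two h2) (by
      rw [← e, mem_cent1.1 (h (norm_of_inv e)), mul_inv_cancel_right]))
  · rw [nt_gen_prime (h7 ▸ by norm_num) (hl (mem_zpowers k)) h1, cent_cycle,
      relIndex_eq_one.2 h] at h3
    omega

theorem cent_four (hG : MS G) (ho : OddFact G) (L1 : Loc1 G) (L2 : Loc2 G) (h : Sp V K)
    (hn : PNil 2 𝐂[V]) (hA : ¬ ∀ Q ≤ 𝐍[V], IsPGroup 2 Q → Q ≤ V ⊔ 𝐂[V]) (hk : k ∈ 𝐂[V])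
    (hko : Odd (orderOf k)) : k = 1 := by_contra fun h1 => by
  obtain ⟨p, hp, h2, a, ha, rfl⟩ := exists_prime_pow h1 hko
  have a1 : a ≠ 1 := by rintro rfl; simp [Nat.not_prime_one] at hp
  obtain ⟨-, -, hB⟩ := (L2.nrm h (hG.xs_norm_pgroup h.ne h.two)).resolve_left hA
  have hN : 𝐍[V] ≤ 𝐂₁[a] := le_cent1.2 (hB ((cent_normal V).core_le _ (pNil_iff_forall.1 hn a
    (zpowers_le.2 hk ha) (odd_iff.2 (hp.odd_of_ne_two h2)))))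
  have hH := hG.xs_norm_cycle a1
  have hC : 𝐂₁[a] ≤ 𝐍[⟪a⟫] := cent_cycle a ▸ cent_sub _
  have hV : V ≤ 𝐍[⟪a⟫] := (normG V).trans (hN.trans hC)
  have hK : K ≤ 𝐍[⟪a⟫] := h.norm.trans (hN.trans hC)
  have hw := L1.wc h (odd_core 𝐍[⟪a⟫]) (norms_pcore _ (normsG hV)) (norms_pcore _ (normsG hK))
    (hH.mono (sup_le (sup_le (pcore_sub _ _) hV) hK))
  refine exists_norm_not_cent ho a1 hp h2 (le_trans (fun g hg => mem_norm_of_conj_le ?_) hN)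
  have hs : Syl 2 V (core {2}ᶜ 𝐍[⟪a⟫] ⊔ V) := ⟨le_sup_right, h.two, fun d => p'core_not_dvd 2 𝐍[⟪a⟫]
    (d.trans (by
      rw [(mulEq_of_sup (cents_norm (centsC.1 hw)) (sup_comm _ _)).relIndex_eq]
      exact FT.relIndex_dvd_card _ _))⟩
  exact sub_normal_Sylow hs (normalYr (cents_norm (centsC.1 hw)))
    (L2.uniq hH (h.conj g) h (conj_le_of_mem hg hV) (conj_le_of_mem hg hK) hV hK) (h.conj g).two

/-- the setting of the dihedral case -/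
structure DH (T : Subgroup G) (σ τ : G) (m : ℕ) : Prop where
  ms : MS G
  of : OddFact G
  l0 : Loc0 G
  syl : Syl 2 T ⊤
  dih : IsDih T σ τ m
  conj : ∀ v ∈ T, v ∉ ⟪σ⟫ → ∃ g ∈ 𝐍[⟪σ ^ m⟫ ⊔ ⟪v⟫], v = g * σ ^ m * g⁻¹
  self : ∀ v ∈ T, v ∉ ⟪σ⟫ → ∀ k ∈ 𝐂₁[σ ^ m], k ∈ 𝐂₁[v] → Odd (orderOf k) → k = 1

theorem J_ne (h : IsDih T σ τ m) : σ ^ m ≠ 1 := fun e => by
  have := h.orderOf_J
  rw [e, orderOf_one] at this
  omega

theorem J_sq (h : IsDih T σ τ m) : σ ^ m * σ ^ m = 1 := mul_self_eq_one_of_orderOf_two h.orderOf_J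

theorem pnil (hS : Syl 2 T ⊤) (h : IsDih T σ τ m) (s1 : s ≠ 1) (s2 : s * s = 1) : PNil 2 𝐂₁[s] := by
  obtain ⟨P, rfl⟩ := syl_top_iff.1 hS
  exact pNil_iff.2 (h.hasNormalPComplement_centralizer
    ⟨1, (orderOf_eq_prime (by rw [pow_two, s2]) s1 : orderOf s = 2)⟩ s1)

theorem exists_dh (hG : MS G) (ho : OddFact G) (L0 : Loc0 G) (L1 : Loc1 G) (L2 : Loc2 G)
    (hS : Syl 2 T ⊤) (h : TwoD T ∨ (TwoE T ∧ Nat.card T = 4 ∧ 𝐂[T] = T)) :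
    ∃ σ τ m, DH T σ τ m := by
  have conj : ∀ σ τ m, IsDih T σ τ m → ∀ v ∈ T, v ∉ ⟪σ⟫ → (∃ K, Sp (⟪σ ^ m⟫ ⊔ ⟪v⟫) K) →
      ∃ g ∈ 𝐍[⟪σ ^ m⟫ ⊔ ⟪v⟫], v = g * σ ^ m * g⁻¹ := fun σ τ m hd v hv hv' ⟨K, hK⟩ => by
    rcases L0.sp hK (hG.xs_of_norm hK.ne (pgroup_sol hK.two) (sup_le (normG _) hK.norm)) with
      hE | ⟨z, hz⟩
    · obtain ⟨k, hk, e⟩ := hE.trans _ (mem_sup_left (mem_zpowers _)) (J_ne hd) v
        (mem_sup_right (mem_zpowers _)) fun e => hv' (e ▸ one_mem _)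
      exact ⟨k, hK.norm hk, e⟩
    · have := derG1P.2 (abelianY.2 ⟨cycle_abelian _, cycle_abelian _, zpowers_le.2
        (cent_cycle (σ ^ m) ▸ hd.le_centralizer_J hv)⟩)
      exact absurd (zpowers_eq_bot.1 (hz.der.symm.trans this)) hz.ne
  rcases h with ⟨σ, τ, m, hd, hm, hs⟩ | ⟨⟨K, hK, he⟩, h4, hc⟩
  · refine ⟨σ, τ, m, hG, ho, L0, hS, hd, fun v hv hv' => conj σ τ m hd v hv hv' (hs v hv hv'),
      fun v hv hv' k h1 h2 h3 => ?_⟩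
    obtain ⟨K, hK⟩ := hs v hv hv'
    have e : 𝐂[⟪σ ^ m⟫ ⊔ ⟪v⟫] = 𝐂₁[σ ^ m] ⊓ 𝐂₁[v] := by rw [centY, cent_cycle, cent_cycle]
    refine cent_four hG ho L1 L2 hK ((pnil hS hd (J_ne hd) (J_sq hd)).mono (e ▸ inf_le_left))
      (fun hA => ?_) (e ▸ ⟨h1, h2⟩) h3
    obtain ⟨n, hn⟩ := exists_card_pgroup hS.pgroup
    obtain ⟨r, rfl⟩ : 2 ∣ m := by
      obtain ⟨j, -, rfl⟩ := (Nat.dvd_prime_pow Nat.prime_two).1
        (Dvd.intro_left 4 (hd.card.symm.trans hn))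
      exact dvd_pow_self 2 (by rintro rfl; simp at hm)
    have hρ : σ ^ r ∈ ⟪σ⟫ := pow_mem (mem_zpowers σ) r
    have hi := hd.conj_of_notMem hv hv' hρ
    have hJ : σ ^ r ∈ 𝐂₁[σ ^ (2 * r)] := mem_cent1.2 (by rw [← pow_add, ← pow_add, add_comm])
    have hr : σ ^ r * v * (σ ^ r)⁻¹ = σ ^ (2 * r) * v := by
      rw [mul_assoc, ← hi, two_mul, pow_add, ← mul_assoc v, ← mul_assoc v,
        hd.mul_self_of_notMem hv hv', one_mul, mul_assoc, inv_eq_of_mul_eq_one_right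
          (hd.mul_self_of_notMem hv hv')]
    have hQ := hA ⟪σ ^ r⟫ (zpowers_le.2 (mem_norm_of_conj_le (by
      rw [conj_sup, conj_zpowers, conj_zpowers, hr, mem_cent1.1 hJ, mul_inv_cancel_right]
      exact sup_le le_sup_left (zpowers_le.2 (mul_mem (mem_sup_left (mem_zpowers _))
        (mem_sup_right (mem_zpowers _)))))))
      (hS.pgroup.to_le (zpowers_le.2 (hd.zpowers_le hρ)))
    have hc : σ ^ r ∈ 𝐂₁[v] := (sup_le (sup_le (zpowers_le.2 (cent1C.1 (hd.le_centralizer_J hv)))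
      (zpowers_le.2 (cent1id v))) (e ▸ inf_le_right)) (hQ (mem_zpowers _))
    rw [mem_cent1.1 hc, mul_inv_cancel_right] at hr
    exact J_ne hd (right_eq_mul.1 hr)
  · obtain ⟨σ, hσ, h1⟩ := exists_order_p hS.pgroup hK.ne
    obtain ⟨τ, hd⟩ := exists_isDih_of_card_four h4 (fun hc => by
      have := card_dvd_of_abelem_cyclic he hc
      rw [h4] at this
      omega) hσ h1
    have e : ∀ v ∈ T, v ∉ ⟪σ⟫ → ⟪σ ^ 1⟫ ⊔ ⟪v⟫ = T := fun v hv hv' => by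
      refine le_antisymm (sup_le (zpowers_le.2 (pow_mem hσ 1)) (zpowers_le.2 hv)) fun x hx => ?_
      rw [pow_one]
      by_cases hx' : x ∈ ⟪σ⟫
      · exact mem_sup_left hx'
      · rw [← mul_inv_cancel_right x v]
        exact mul_mem (mem_sup_left (mul_mem_of_relIndex_le_two hd.relIndex.le hx hv hx' hv'))
          (mem_sup_right (inv_mem (mem_zpowers v)))
    refine ⟨σ, τ, 1, hG, ho, L0, hS, hd, fun v hv hv' => conj σ τ 1 hd v hv hv'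
      ⟨K, (e v hv hv').symm ▸ hK⟩, fun v hv hv' k h1 h2 => eq_one_of_two hS.pgroup ?_⟩
    rw [← hc, ← e v hv hv', centY, cent_cycle, cent_cycle]
    exact ⟨h1, h2⟩

end Cfsg.Acd.DD
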