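import Cfsg.Agent.Acd.D1

/-!
# Piece `StD` of S4753, part 2: centralisers of elements commuting with an involution
-/

set_option autoImplicit false
set_option linter.unusedSectionVars false

namespace Cfsg.Acd.DD

open Cfsg.FT Subgroup
open scoped Pointwise

universe u

variable {G : Type u} [Group G] [Finite G] {T R : Subgroup G} {σ τ a b g k s t v : G} {m : ℕ}

theorem ord_two (s1 : s ≠ 1) (s2 : s * s = 1) : orderOf s = 2 :=
  orderOf_eq_prime (by rw [pow_two, s2]) s1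

theorem conj_cent (h : k ∈ 𝐂₁[s]) (g : G) : g * k * g⁻¹ ∈ 𝐂₁[g * s * g⁻¹] := by
  rw [cent1_conj]; exact conj_mem_conj.2 h

theorem odd_conj (h : Odd (orderOf k)) (g : G) : Odd (orderOf (g * k * g⁻¹)) :=
  odd_iff.1 ((odd_iff.2 h).conj g)

theorem sq_conj (h : s * s = 1) (g : G) : g * s * g⁻¹ * (g * s * g⁻¹) = 1 := by
  simp [mul_assoc, ← mul_assoc s, h]

theorem comm_of_inv (ha : s * a * s⁻¹ = a⁻¹) (hb : s * b * s⁻¹ = b⁻¹)
    (h : s * (a * b) * s⁻¹ = (a * b)⁻¹) : a * b = b * a := inv_injective (by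
  rw [← h, mul_inv_rev, ← ha, ← hb]; group)

theorem inv_of_fpf (ht : t ∈ 𝐍[R]) (t2 : t * t = 1) (h : ∀ n ∈ R, t * n = n * t → n = 1)
    (hk : k ∈ R) : t * k * t⁻¹ = k⁻¹ := by
  obtain ⟨n, -, e⟩ := exists_conj_eq_mul_of_fixedPointFree ht h hk
  have := sq_conj t2 n
  rw [e] at this
  rw [inv_eq_of_mul_eq_one_right t2, eq_inv_iff_mul_eq_one, ← conj_eq_one_iff (a := k), ← this]
  group

theorem burn {p : ℕ} [Fact p.Prime] {P E : Subgroup G} (hP : Syl p P ⊤) (ha : IsMulCommutative P)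
    (hE : E ≤ P) (hg : g •ᶜ E ≤ P) : ∃ n ∈ 𝐍[P], ∀ x ∈ E, n * x * n⁻¹ = g * x * g⁻¹ := by
  obtain ⟨c, hc, e⟩ := Sylow_trans ((hP.conj_top g).subl (conj_cents g (sub_abelian_cent ha hE))
    le_top) (hP.subl (sub_abelian_cent ha hg) le_top)
  refine ⟨c * g, conj_eq_iff_mem_norm.1 (by rw [map_mul, mul_smul, ← e]), fun x hx => ?_⟩
  calc _ = c * (g * x * g⁻¹) * c⁻¹ := by group
    _ = _ := by rw [← mem_cent.1 hc _ (conj_mem_conj.2 hx), mul_inv_cancel_right]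

namespace DH
variable (h : DH T σ τ m)
include h

theorem conjJ (t1 : t ≠ 1) (t2 : t * t = 1) : ∃ g : G, t = g * σ ^ m * g⁻¹ := by
  obtain ⟨g, -, hg⟩ := Sylow_Jsub h.syl le_top (two_cycle t2)
  have ht := hg (conj_mem_conj.2 (mem_zpowers t))
  by_cases e : g * t * g⁻¹ ∈ ⟪σ⟫
  · exact ⟨g⁻¹, by
      rw [← h.dih.eq_J e (ord_two (mt conj_eq_one_iff.1 t1) (sq_conj t2 g))]; group⟩
  · obtain ⟨c, -, hc⟩ := h.conj _ ht e
    exact ⟨g⁻¹ * c, by rw [mul_inv_rev, mul_assoc g⁻¹, mul_assoc g⁻¹, ← mul_assoc (c * _), ← hc]; group⟩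

theorem self' (s1 : s ≠ 1) (s2 : s * s = 1) (t1 : t ≠ 1) (t2 : t * t = 1) (st : s ≠ t)
    (c : t ∈ 𝐂₁[s]) (ks : k ∈ 𝐂₁[s]) (kt : k ∈ 𝐂₁[t]) (ko : Odd (orderOf k)) : k = 1 := by
  obtain ⟨g, -, hg⟩ := Sylow_Jsub h.syl le_top (pgroup_sup (two_cycle s2) (two_cycle t2)
    (cents_norm (zpowers_le.2 (cent_cycle s ▸ c))))
  have hs := hg (conj_mem_conj.2 (mem_sup_left (mem_zpowers s)))
  have ht := hg (conj_mem_conj.2 (mem_sup_right (mem_zpowers t)))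
  refine conj_eq_one_iff.1 (?_ : g * k * g⁻¹ = 1)
  replace st : g * s * g⁻¹ ≠ g * t * g⁻¹ := by simpa using st
  replace s1 : g * s * g⁻¹ ≠ 1 := mt conj_eq_one_iff.1 s1
  replace t1 : g * t * g⁻¹ ≠ 1 := mt conj_eq_one_iff.1 t1
  replace s2 := sq_conj s2 g
  replace t2 := sq_conj t2 g
  replace c := mem_cent1.1 (conj_cent c g)
  replace ks := conj_cent ks g
  replace kt := conj_cent kt g
  replace ko := odd_conj ko g
  generalize g * s * g⁻¹ = s at *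
  generalize g * t * g⁻¹ = t at *
  by_cases a : s ∈ ⟪σ⟫ <;> by_cases b : t ∈ ⟪σ⟫
  · exact absurd ((h.dih.eq_J a (ord_two s1 s2)).trans (h.dih.eq_J b (ord_two t1 t2)).symm) st
  · exact h.self t ht b _ (h.dih.eq_J a (ord_two s1 s2) ▸ ks) kt ko
  · exact h.self s hs a _ (h.dih.eq_J b (ord_two t1 t2) ▸ kt) ks ko
  · refine h.self s hs a _ ?_ ks ko
    rw [← h.dih.eq_J (mul_mem_of_relIndex_le_two h.dih.relIndex.le hs ht a b) (ord_two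
      (fun e => st (by rw [eq_inv_of_mul_eq_one_left e, inv_eq_of_mul_eq_one_right t2]))
      (by rw [mul_assoc, ← mul_assoc t, c, mul_assoc, t2, mul_one, s2])), cent1C]
    exact mul_mem (cent1C.1 ks) (cent1C.1 kt)

theorem mem_core (s1 : s ≠ 1) (s2 : s * s = 1) (ks : k ∈ 𝐂₁[s]) (ko : Odd (orderOf k)) :
    k ∈ core {2}ᶜ 𝐂₁[s] := pNil_iff_forall.1 (pnil h.syl h.dih s1 s2) k ks (odd_iff.2 ko)

theorem inv (s1 : s ≠ 1) (s2 : s * s = 1) (t1 : t ≠ 1) (t2 : t * t = 1) (st : s ≠ t)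
    (c : t ∈ 𝐂₁[s]) (ks : k ∈ 𝐂₁[s]) (ko : Odd (orderOf k)) : t * k * t⁻¹ = k⁻¹ :=
  inv_of_fpf ((pcore_normal {2}ᶜ _).norm c) t2 (fun n hn e => h.self' s1 s2 t1 t2 st c
    (pcore_sub _ _ hn) (mem_cent1.2 e.symm) (odd_of_mem (odd_core _) hn)) (h.mem_core s1 s2 ks ko)

theorem exists_other (s1 : s ≠ 1) (s2 : s * s = 1) :
    ∃ t, t ≠ 1 ∧ t * t = 1 ∧ s ≠ t ∧ t ∈ 𝐂₁[s] := by
  obtain ⟨g, rfl⟩ := h.conjJ s1 s2
  refine ⟨_, mt conj_eq_one_iff.1 fun e : τ = 1 => h.dih.notMem (by rw [e]; exact one_mem _), sq_conj h.dih.sq g,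
    fun e => h.dih.notMem ?_, conj_cent (h.dih.le_centralizer_J h.dih.mem_τ) g⟩
  rw [← mul_left_cancel (mul_right_cancel e)]
  exact pow_mem (mem_zpowers σ) m

theorem comm_odd (s1 : s ≠ 1) (s2 : s * s = 1) (ha : a ∈ 𝐂₁[s]) (hb : b ∈ 𝐂₁[s])
    (ao : Odd (orderOf a)) (bo : Odd (orderOf b)) : a * b = b * a := by
  obtain ⟨t, t1, t2, st, c⟩ := h.exists_other s1 s2
  exact comm_of_inv (h.inv s1 s2 t1 t2 st c ha ao) (h.inv s1 s2 t1 t2 st c hb bo)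
    (h.inv s1 s2 t1 t2 st c (mul_mem ha hb) (odd_of_mem (odd_core _)
      (mul_mem (h.mem_core s1 s2 ha ao) (h.mem_core s1 s2 hb bo))))

theorem cyc (a1 : a ≠ 1) (ao : Odd (orderOf a)) (hR : IsPGroup 2 R) (hl : R ≤ 𝐂₁[a]) :
    IsCyclic R := by
  obtain ⟨g, -, hg⟩ := Sylow_Jsub h.syl le_top hR
  rw [← isCyclic_conj (g := g)]
  replace hl : g •ᶜ R ≤ 𝐂₁[g * a * g⁻¹] := cent1_conj g a ▸ smul_mono_right _ hl
  by_cases e : g •ᶜ R ≤ ⟪σ⟫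
  · exact cyclicS e (cycle_cyclic σ)
  obtain ⟨v, hv, hv'⟩ := SetLike.not_le_iff_exists.1 e
  have key : ∀ x ∈ g •ᶜ R, x ∈ ⟪σ⟫ → x = 1 := fun x hx hx' => by_contra fun x1 =>
    a1 (conj_eq_one_iff.1 (h.self v (hg hv) hv' _ (cent1C.1 (hl (zpowers_le.2 hx
      (h.dih.J_mem_zpowers h.syl.pgroup hx' x1)))) (cent1C.1 (hl hv)) (odd_conj ao g)))
  refine cyclicS (fun x hx => ?_) (cycle_cyclic v)
  by_cases hx' : x ∈ ⟪σ⟫
  · exact key x hx hx' ▸ one_mem _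
  · rw [eq_inv_of_mul_eq_one_left (key _ (mul_mem hx hv)
      (mul_mem_of_relIndex_le_two h.dih.relIndex.le (hg hx) (hg hv) hx' hv'))]
    exact inv_mem (mem_zpowers v)

theorem pnil_odd (a1 : a ≠ 1) (ao : Odd (orderOf a)) : PNil 2 𝐂₁[a] := by
  obtain ⟨R, hR⟩ := Sylow_exists (p := 2) 𝐂₁[a]
  exact cyclic_Sylow_pNil hR (h.cyc a1 ao hR.pgroup hR.le) (Nat.coprime_one_right _)

theorem no_pair (a1 : a ≠ 1) (hp : (orderOf a).Prime) (ao : Odd (orderOf a)) (hs : s ∈ 𝐂₁[a])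
    (hb : b = g * a * g⁻¹) (hi : s * b * s⁻¹ = b⁻¹) (hc : b ∈ 𝐂₁[a]) : False := by
  have := Fact.mk hp
  have pa := prime_pgroup (Nat.card_zpowers a)
  obtain ⟨P, hP, hE, hab, hN, -⟩ := exists_syl h.of (fun e => by rw [e] at ao; exact absurd ao (by decide)) (pgroup_sup pa
    (hb ▸ conj_zpowers g a ▸ isPGroup_conj.2 pa) (cents_norm (zpowers_le.2 (cent_cycle a ▸ hc))))
    (ne_bot_of_mem (mem_sup_left (mem_zpowers a)) a1)
  have bP := hE (mem_sup_right (mem_zpowers b))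
  have sa : s * a * s⁻¹ = a := by rw [mem_cent1.1 hs, mul_inv_cancel_right]
  obtain ⟨n, hn, e⟩ := burn hP hab (le_sup_left.trans hE) (g := g) (by
    rw [conj_zpowers, ← hb]; exact zpowers_le.2 bP)
  obtain ⟨r, hr, e'⟩ := burn hP hab hE (g := s) (by
    rw [conj_sup, conj_zpowers, conj_zpowers, sa, hi, zpowers_inv]; exact hE)
  have e1 := (e a (mem_zpowers a)).trans hb.symm
  have e2 := (e' a (mem_sup_left (mem_zpowers a))).trans sa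
  have e3 := (e' b (mem_sup_right (mem_zpowers b))).trans hi
  have e4 := mem_cent.1 (commg_le_iff.1 hN r hr n hn) b bP
  refine a1 (conj_eq_one_iff.1 (hb.symm.trans (eq_one_of_inv (hb ▸ odd_conj ao g) ?_)))
  calc b = r * n * r⁻¹ * n⁻¹ * b * (r * n * r⁻¹ * n⁻¹)⁻¹ := by rw [← e4, mul_inv_cancel_right]
    _ = r * n * r⁻¹ * n⁻¹ * (n * (r * a * r⁻¹) * n⁻¹) * (r * n * r⁻¹ * n⁻¹)⁻¹ := by rw [e2, e1]
    _ = r * (n * a * n⁻¹) * r⁻¹ := by group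
    _ = _ := by rw [e1, e3]

theorem cent_le (s1 : s ≠ 1) (s2 : s * s = 1) (k1 : k ≠ 1) (ko : Odd (orderOf k))
    (ks : k ∈ 𝐂₁[s]) : 𝐂₁[k] ≤ 𝐂₁[s] := by
  obtain ⟨p, hp, h2, a, ha, rfl⟩ := exists_prime_pow k1 ko
  have a1 : a ≠ 1 := by rintro rfl; simp [Nat.not_prime_one] at hp
  have ao := hp.odd_of_ne_two h2
  have as : a ∈ 𝐂₁[s] := zpowers_le.2 ks ha
  refine (cent1_le_cent1_of_mem ha).trans ?_
  obtain ⟨R, hR, hl⟩ := Sylow_superset (zpowers_le.2 (cent1C.1 as)) (two_cycle s2)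
  rw [← ((h.pnil_odd a1 ao).sdprod hR).sup_eq]
  refine sup_le ?_ (le_cent1.2 (abelian_iff.1 (cyclic_abelian (h.cyc a1 ao hR.pgroup hR.le))
    (hl (mem_zpowers s))))
  obtain ⟨t, t1, t2, st, c⟩ := h.exists_other s1 s2
  have hV := abelem_sup (p := 2) (cycle_abelem (by rw [pow_two, s2]))
    (cycle_abelem (by rw [pow_two, t2])) (zpowers_le.2 (cent_cycle s ▸ c))
  have nc : ∀ {u b : G}, u * b * u⁻¹ = b⁻¹ → u ∈ 𝐍[core {2}ᶜ 𝐂₁[b]] := fun {u b} e =>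
    (pcore_char _ _).norm_le (cent_cycle b ▸ cent_norm _ (norm_of_inv e))
  refine coprime_abelian_gen_cent1_le hV.1 (fun hc => ?_) (sup_le (zpowers_le.2
    ((pcore_normal _ _).norm (cent1C.1 as))) (zpowers_le.2 (nc (h.inv s1 s2 t1 t2 st c as ao))))
    (coprime_of_two_odd (abelem_pgroup hV) (odd_core _)).symm fun v hv v1 b hb => ?_
  · obtain ⟨x, e⟩ := cyclicP.1 hc
    exact st (eq_of_mem_zpowers_of_orderOf_two (e ▸ mem_sup_left (mem_zpowers s))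
      (e ▸ mem_sup_right (mem_zpowers t)) (ord_two s1 s2) (ord_two t1 t2))
  by_cases sv : s = v
  · exact sv ▸ hb.2
  by_cases b1 : b = 1
  · exact b1 ▸ one_mem _
  have v2 : v * v = 1 := by rw [← pow_two, hV.2 v hv]
  have vs := comm_of_abelian hV.1 hv (mem_sup_left (mem_zpowers s))
  have bo := odd_of_mem (odd_core _) hb.1
  obtain ⟨g, e⟩ : ∃ g : G, v = g * s * g⁻¹ := by
    obtain ⟨x, e⟩ := h.conjJ s1 s2
    obtain ⟨y, e'⟩ := h.conjJ v1 v2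
    exact ⟨y * x⁻¹, by rw [e, e']; group⟩
  have u1 : s * v ≠ 1 := fun e => sv (by
    rw [eq_inv_of_mul_eq_one_left e, inv_eq_of_mul_eq_one_right v2])
  have u2 : s * v * (s * v) = 1 := by rw [mul_assoc, ← mul_assoc v, vs, mul_assoc, v2, mul_one, s2]
  have iv : ∀ x ∈ 𝐂₁[v], Odd (orderOf x) → s * v * x * (s * v)⁻¹ = x⁻¹ := fun x hx =>
    h.inv v1 v2 u1 u2 (fun e => s1 (right_eq_mul.1 e)) (mul_mem (mem_cent1.2 vs.symm) (cent1id v)) hx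
  have ia := h.inv s1 s2 u1 u2 (fun e => v1 (left_eq_mul.1 e))
    (mul_mem (cent1id s) (mem_cent1.2 vs)) as ao
  have av : g * a * g⁻¹ ∈ 𝐂₁[v] := e ▸ conj_cent as g
  have hi := h.l0.inv (odd_core 𝐂₁[b]) (two_cycle u2) (nc (iv b hb.2 bo)) (u2 ▸ one_mem _)
    ((h.ms.xs_norm_cycle b1).mono (sup_le ((pcore_sub _ _).trans (cent_cycle b ▸ cent_sub _))
      (zpowers_le.2 (norm_of_inv (iv b hb.2 bo)))))
  have hm : ∀ x ∈ 𝐂₁[b], Odd (orderOf x) → s * v * x * (s * v)⁻¹ = x⁻¹ →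
      x ∈ ⁅core {2}ᶜ 𝐂₁[b], ⟪s * v⟫⁆ := fun x hx xo e => by
    refine zpowers_le.2 (?_ : x ^ 2 ∈ _) (mem_zpowers_pow_iff.2 xo.coprime_two_left)
    rw [pow_two, show x * x = x * (s * v * x * (s * v)⁻¹)⁻¹ by rw [e, inv_inv],
      show x * (s * v * x * (s * v)⁻¹)⁻¹ = x * (s * v) * x⁻¹ * (s * v)⁻¹ by group]
    exact commg_le_iff.1 le_rfl _ (pNil_iff_forall.1 (h.pnil_odd b1 bo) x hx (odd_iff.2 xo)) _
      (mem_zpowers _)
  have m1 := hm a (cent1C.1 (pcore_sub _ _ hb.1)) ao ia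
  have m2 := hm _ (mem_cent1.2 (h.comm_odd v1 v2 av hb.2 (odd_conj ao g) bo)) (odd_conj ao g)
    (iv _ av (odd_conj ao g))
  exact (h.no_pair a1 hp ao (cent1C.1 as) rfl (h.inv v1 v2 s1 s2 (Ne.symm sv) (mem_cent1.2 vs.symm) av
    (odd_conj ao g)) (mem_cent1.2 (comm_of_inv (hi _ m2) (hi _ m1) (hi _ (mul_mem m2 m1))))).elim

end DH

end Cfsg.Acd.DD
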