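import Cfsg.Agent.FT.CF.PF1
import Cfsg.Agent.FT.Base.BG1
import Cfsg.Agent.Blk.DihGrp

/-!
# Groups whose proper subgroups have average character degree at most two: vocabulary

FROZEN statements of the pieces of S4753 (see `docs/Acd.md`).
-/

set_option autoImplicit false

namespace Cfsg.Acd

open Cfsg.FT
open scoped Pointwise

universe u

section Defs
variable {G : Type*} [Group G]

/-- the excess `∑ (χ(1) - 2)` (truncated subtraction) -/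
noncomputable def exc [Finite G] (L : Subgroup G) : ℕ := ∑ χ ∈ irr L, (charDegree χ - 2)

/-- average character degree at most two -/
def Acd [Finite G] (L : Subgroup G) : Prop := exc L ≤ ⁅L, L⁆.relIndex L

/-- every subgroup of `L` has average character degree at most two -/
def XS [Finite G] (L : Subgroup G) : Prop := ∀ H, H ≤ L → Acd H

/-- special pair: an abelian group `K` of odd order acting on a `2`-group `W = [W, K] ≠ 1` -/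
structure Sp (W K : Subgroup G) : Prop where
  two : IsPGroup 2 W
  ne : W ≠ ⊥
  ab : IsMulCommutative K
  odd : Odd (Nat.card K)
  norm : K ≤ 𝐍[W]
  comm : ⁅W, K⁆ = W

/-- elementary special pair: `K` is transitive on `W^#` -/
structure SpE (W K : Subgroup G) : Prop where
  abelem : IsElementaryAbelian 2 W
  four : 4 ≤ Nat.card W
  trans : ∀ a ∈ W, a ≠ 1 → ∀ b ∈ W, b ≠ 1 → ∃ k ∈ K, b = k * a * k⁻¹

/-- `W` is quaternion of order `8` with involution `z` -/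
structure IsQ (W : Subgroup G) (z : G) : Prop where
  card : Nat.card W = 8
  mem : z ∈ W
  ne : z ≠ 1
  sq : z * z = 1
  root : ∀ a ∈ W, a = 1 ∨ a = z ∨ a * a = z
  der : ⁅W, W⁆ = ⟪z⟫

/-- the data reached in the dihedral case -/
structure DData (z : G) (M : Subgroup G) : Prop where
  ne : z ≠ 1
  sq : z * z = 1
  conj : ∀ t : G, t ≠ 1 → t * t = 1 → ∃ g : G, t = g * z * g⁻¹
  mem : z ∈ M
  ab : IsMulCommutative M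
  le : M ≤ 𝐂₁[z]
  idx : M.relIndex 𝐂₁[z] = 2
  out : ∀ a ∈ 𝐂₁[z], a ∉ M → a * a = 1
  uniq : ∀ a ∈ M, a * a = 1 → a = 1 ∨ a = z
  cent : ∀ a ∈ M, a ≠ 1 → a ≠ z → 𝐂₁[a] = M
  big : 4 ≤ Nat.card M
  odd : ∀ a : G, a ≠ 1 → Odd (Nat.card 𝐂₁[a]) →
    IsMulCommutative 𝐂₁[a] ∧ (∀ b ∈ 𝐂₁[a], b ≠ 1 → 𝐂₁[b] = 𝐂₁[a]) ∧
    (𝐂₁[a].relIndex 𝐍[𝐂₁[a]] = 2 ∨
      (Nat.card 𝐂₁[a] = 5 ∧ 𝐂₁[a].relIndex 𝐍[𝐂₁[a]] = 4) ∨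
      (Nat.card 𝐂₁[a] = 7 ∧ (𝐂₁[a].relIndex 𝐍[𝐂₁[a]] = 3 ∨ 𝐂₁[a].relIndex 𝐍[𝐂₁[a]] = 6)) ∨
      (Nat.card 𝐂₁[a] = 9 ∧ (𝐂₁[a].relIndex 𝐍[𝐂₁[a]] = 4 ∨ 𝐂₁[a].relIndex 𝐍[𝐂₁[a]] = 8)))

/-- Sylow `2`-subgroup of elementary type -/
def TwoE (T : Subgroup G) : Prop := ∃ K, Sp T K ∧ IsElementaryAbelian 2 T

/-- Sylow `2`-subgroup of dihedral type, all four-subgroups special -/
def TwoD (T : Subgroup G) : Prop :=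
  ∃ σ τ m, IsDih T σ τ m ∧ 2 ≤ m ∧ ∀ v ∈ T, v ∉ ⟪σ⟫ → ∃ K, Sp (⟪σ ^ m⟫ ⊔ ⟪v⟫) K

end Defs

/-- minimal simple setting -/
structure MS (G : Type*) [Group G] [Finite G] : Prop where
  simple : IsSimpleGroup G
  nsol : ¬ Group.IsSolvable G
  xs : ∀ H : Subgroup G, H ≠ ⊤ → XS H

/-- the odd Sylow subgroups -/
def OddFact (G : Type*) [Group G] : Prop :=
  ∀ p : ℕ, p.Prime → p ≠ 2 → ∀ P : Subgroup G, Syl p P ⊤ → P ≠ ⊥ →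
    IsMulCommutative P ∧ ⁅𝐍[P], 𝐍[P]⁆ ≤ 𝐂[P] ∧
      ((∃ u : G, IsPGroup 2 ⟪u⟫ ∧ ∀ a ∈ P, u * a * u⁻¹ = a⁻¹) ∨
        (Nat.card P = 7 ∧ 𝐂[P].relIndex 𝐍[P] = 3))

/-- first layer of local facts (helper3) -/
structure Loc0 (G : Type*) [Group G] [Finite G] : Prop where
  sol : ∀ {H : Subgroup G}, XS H → Group.IsSolvable H
  /-- orbit form: `R` is a set of pairwise non-conjugate points -/
  abR : ∀ {V K : Subgroup G}, IsMulCommutative V → IsMulCommutative K → K ≤ 𝐍[V] →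
    (Nat.card V).Coprime (Nat.card K) → XS (V ⊔ K) → ∀ R : Finset G,
    (∀ v ∈ R, v ∈ V ∧ v ∉ 𝐂[K]) → (∀ v ∈ R, ∀ w ∈ R, ∀ k ∈ K, w = k * v * k⁻¹ → v = w) →
    ∑ v ∈ R, (1 - 2 / (𝐂₁[v].relIndex K : ℚ)) ≤ Nat.card ↥(V ⊓ 𝐂[K])
  /-- element form: all points of `S` have orbits of length `n` -/
  abS : ∀ {V K : Subgroup G}, IsMulCommutative V → IsMulCommutative K → K ≤ 𝐍[V] →
    (Nat.card V).Coprime (Nat.card K) → XS (V ⊔ K) → ∀ (n : ℕ) (S : Finset G),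
    (∀ v ∈ S, v ∈ V ∧ 𝐂₁[v].relIndex K = n) → S.card * (n - 2) ≤ n ^ 2 * Nat.card ↥(V ⊓ 𝐂[K])
  odd : ∀ {U X : Subgroup G}, Odd (Nat.card U) → IsMulCommutative X → X ≤ 𝐍[U] →
    (Nat.card U).Coprime (Nat.card X) → XS (U ⊔ X) → IsMulCommutative ↥⁅U, X⁆
  inv : ∀ {U : Subgroup G} {t : G}, Odd (Nat.card U) → IsPGroup 2 ⟪t⟫ → t ∈ 𝐍[U] →
    t * t ∈ 𝐂[U] → XS (U ⊔ ⟪t⟫) → ∀ a ∈ ⁅U, ⟪t⟫⁆, t * a * t⁻¹ = a⁻¹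
  seven : ∀ {U X : Subgroup G}, Odd (Nat.card U) → IsMulCommutative X → Odd (Nat.card X) →
    X ≤ 𝐍[U] → (Nat.card U).Coprime (Nat.card X) → XS (U ⊔ X) → ¬ X ≤ 𝐂[U] →
    Nat.card ↥⁅U, X⁆ = 7 ∧ 𝐂[U].relIndex X = 3
  sp : ∀ {W K : Subgroup G}, Sp W K → XS (W ⊔ K) → SpE W K ∨ ∃ z, IsQ W z
  spDer : ∀ {W K : Subgroup G}, Sp W K → XS (W ⊔ K) → K ≤ 𝐂[⁅W, W⁆] ∧ W ⊓ 𝐂[K] = ⁅W, W⁆
  spTrans : ∀ {W K : Subgroup G}, Sp W K → XS (W ⊔ K) → ∀ a ∈ W, a ∉ ⁅W, W⁆ → ∀ b ∈ W,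
    b ∉ ⁅W, W⁆ → ∃ k ∈ K, b⁻¹ * (k * a * k⁻¹) ∈ ⁅W, W⁆
  spPrime : ∀ {W K : Subgroup G}, Sp W K → XS (W ⊔ K) →
    (𝐂[W].relIndex K).Prime ∧ 𝐂[W].relIndex K + 1 = ⁅W, W⁆.relIndex W
  spC : ∀ {W K C : Subgroup G}, Sp W K → XS (W ⊔ K) → IsPGroup 2 C → C ≤ 𝐍[W] → C ≤ 𝐂[K] →
    C ≤ 𝐂[W]

/-- second layer: special pairs acting on odd groups, odd local subgroups -/
structure Loc1 (G : Type*) [Group G] [Finite G] : Prop where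
  wc : ∀ {W K U : Subgroup G}, Sp W K → Odd (Nat.card U) → W ≤ 𝐍[U] → K ≤ 𝐍[U] →
    XS (U ⊔ W ⊔ K) → W ≤ 𝐂[U]
  pc : ∀ {p : ℕ} {H P : Subgroup G}, p.Prime → p ≠ 2 → XS H → Syl p P H →
    H ≤ 𝐍[core {p}ᶜ H ⊔ P]
  ol : ∀ {p : ℕ} {P X : Subgroup G}, p.Prime → p ≠ 2 → IsPGroup p P → P ≠ ⊥ →
    ¬ p ∣ Nat.card X → X ≤ 𝐍[P] → ⁅P, X⁆ = P → XS (P ⊔ X) →
    IsMulCommutative P ∧ ⁅X, X⁆ ≤ 𝐂[P] ∧
      ((∃ u ∈ X, IsPGroup 2 ⟪u⟫ ∧ ∀ a ∈ P, u * a * u⁻¹ = a⁻¹) ∨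
        (Nat.card P = 7 ∧ 𝐂[P].relIndex X = 3))

/-- third layer: uniqueness of special subgroups (helper3) -/
structure Loc2 (G : Type*) [Group G] [Finite G] : Prop where
  uniq : ∀ {H W₁ K₁ W₂ K₂ : Subgroup G}, XS H → Sp W₁ K₁ → Sp W₂ K₂ → W₁ ≤ H → K₁ ≤ H →
    W₂ ≤ H → K₂ ≤ H → W₁ ≤ core {2}ᶜ H ⊔ W₂
  uniq' : ∀ {H W₁ K₁ W₂ K₂ Q : Subgroup G}, XS H → Sp W₁ K₁ → Sp W₂ K₂ → W₁ ≤ H → K₁ ≤ H →
    W₂ ≤ H → K₂ ≤ H → IsPGroup 2 Q → W₁ ≤ Q → W₂ ≤ Q → W₁ = W₂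
  normal : ∀ {H W K Q : Subgroup G}, XS H → Sp W K → K ≤ H → IsPGroup 2 Q → W ≤ Q → Q ≤ H →
    Q ≤ 𝐍[W]
  nrm : ∀ {W K : Subgroup G}, Sp W K → XS 𝐍[W] →
    (∀ Q ≤ 𝐍[W], IsPGroup 2 Q → Q ≤ W ⊔ 𝐂[W]) ∨
    (Nat.card W = 4 ∧ (∀ Q ≤ 𝐍[W], IsPGroup 2 Q → ⁅Q, Q⁆ ≤ W ∧ Q ⊓ 𝐂[W] ⊓ 𝐂[K] ≤ 𝐂[Q]) ∧
      core {2}ᶜ 𝐍[W] ≤ 𝐂[𝐍[W]])
  fix : ∀ {W K P : Subgroup G}, Sp W K → XS 𝐍[W] → IsPGroup 2 P → W ≤ P → P ≤ W ⊔ 𝐂[W] →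
    ∃ K', Sp W K' ∧ K' ≤ 𝐍[P] ∧ ⁅P, K'⁆ = W

def StLoc0 : Prop := ∀ (G : Type u) [Group G] [Finite G], Loc0 G
def StLoc1 : Prop := ∀ (G : Type u) [Group G] [Finite G], Loc1 G
def StLoc2 : Prop := ∀ (G : Type u) [Group G] [Finite G], Loc2 G

/-- Brauer-Suzuki, special case -/
def StBS : Prop := ∀ (G : Type u) [Group G] [Finite G] (T : Subgroup G) (z y : G),
  commutator G = ⊤ → Syl 2 T ⊤ → IsQ T z → 𝐂₁[z] ≤ 𝐍[T] → y ∈ 𝐍[T] → Odd (orderOf y) →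
  y ∉ 𝐂[T] → False

/-- recognition of `SL₂(2^n)` -/
def StRec : Prop := ∀ (G : Type u) [Group G] [Finite G] (T K : Subgroup G),
  Syl 2 T ⊤ → 𝐍[T] ≠ ⊤ → (∀ t ∈ T, t ≠ 1 → 𝐂₁[t] = T) → K ≤ 𝐍[T] → IsMulCommutative K →
  SpE T K → Nat.card G = Nat.card T * (Nat.card T ^ 2 - 1) ∧
    ∃ (F : Type) (_ : Field F) (_ : Fintype F), Fintype.card F = Nat.card T ∧
      Nonempty (G ≃* Matrix.ProjectiveSpecialLinearGroup (Fin 2) F)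

/-- class equation -/
def StCount : Prop := ∀ (G : Type u) [Group G] [Finite G] (z : G) (M : Subgroup G),
  DData z M → (∀ H : Subgroup G, H ≠ ⊤ → Group.IsSolvable H) → Nat.card G = 168

def StO : Prop := ∀ (G : Type u) [Group G] [Finite G], MS G → OddFact G

def StT : Prop := ∀ (G : Type u) [Group G] [Finite G] (T : Subgroup G), MS G → Syl 2 T ⊤ →
  TwoE T ∨ TwoD T

def StE : Prop := ∀ (G : Type u) [Group G] [Finite G] (T : Subgroup G), MS G → OddFact G →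
  Syl 2 T ⊤ → TwoE T → 𝐂[T] = T ∧ (8 ≤ Nat.card T → ∀ t ∈ T, t ≠ 1 → 𝐂₁[t] = T)

def StD : Prop := ∀ (G : Type u) [Group G] [Finite G] (T : Subgroup G), MS G → OddFact G →
  Syl 2 T ⊤ → (TwoD T ∨ (TwoE T ∧ Nat.card T = 4 ∧ 𝐂[T] = T)) →
  (∀ t ∈ T, t ≠ 1 → 𝐂₁[t] = T) ∨ ∃ (z : G) (M : Subgroup G), DData z M

/-- classification of the simple case -/
def StSimple : Prop := ∀ (G : Type u) [Group G] [Finite G] (T : Subgroup G), MS G → Syl 2 T ⊤ →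
  (TwoE T ∧ Nat.card G = Nat.card T * (Nat.card T ^ 2 - 1) ∧
    ∃ (F : Type) (_ : Field F) (_ : Fintype F) (q : ℕ), q.Prime ∧ Fintype.card F = 2 ^ q ∧
      Nonempty (G ≃* Matrix.ProjectiveSpecialLinearGroup (Fin 2) F)) ∨
  (TwoD T ∧ Nat.card G = 168 ∧
    Nonempty (G ≃* Matrix.ProjectiveSpecialLinearGroup (Fin 2) (ZMod 7)))

/-- the whole theorem in terms of `XS` -/
def StMain : Prop := ∀ (G : Type u) [Group G] [Finite G], (∀ H : Subgroup G, H ≠ ⊤ → XS H) →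
  Group.IsSolvable G ∨ Nonempty (G ≃* Matrix.ProjectiveSpecialLinearGroup (Fin 2) (ZMod 7)) ∨
    (∃ (F : Type) (_ : Field F) (_ : Fintype F) (q : ℕ), q.Prime ∧ Fintype.card F = 2 ^ q ∧
      Nonempty (G ≃* Matrix.ProjectiveSpecialLinearGroup (Fin 2) F)) ∨
    Nonempty (G ≃* Matrix.SpecialLinearGroup (Fin 2) (ZMod 5))

end Cfsg.Acd
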